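import Groth.Agent.MagnetDense.Basic
import Mathlib

/-!
# Equivariant maps out of an affine monoid into an affine scheme are represented by a closed subscheme
-/

set_option autoImplicit false
set_option backward.isDefEq.respectTransparency false
set_option linter.style.haveILetI false
set_option maxHeartbeats 1000000
set_option synthInstance.maxHeartbeats 100000

universe u

open CategoryTheory CategoryTheory.Limits MonoidalCategory CartesianMonoidalCategory MonObj AlgebraicGeometry Opposite
open scoped TensorProduct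

noncomputable section

namespace Groth.Agent.MagnetDense

variable {k : Type u} [Field k]

/-- The spectrum of an algebra. -/
abbrev asp (k : Type u) [Field k] (A : Type u) [CommRing A] [Algebra k A] : Over (Spec (CommRingCat.of k)) :=
  Over.mk (Spec.map (CommRingCat.ofHom (algebraMap k A)))

/-- The morphism of spectra. -/
def aspMap {A B : Type u} [CommRing A] [Algebra k A] [CommRing B] [Algebra k B] (f : A →ₐ[k] B) :
    asp k B ⟶ asp k A :=
  Over.homMk (Spec.map (CommRingCat.ofHom f.toRingHom)) (by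
    dsimp only [asp, Over.mk_hom]
    rw [← Spec.map_comp, ← CommRingCat.ofHom_comp]
    congr 2
    exact f.comp_algebraMap)

theorem aspMap_comp {A B C : Type u} [CommRing A] [Algebra k A] [CommRing B] [Algebra k B] [CommRing C] [Algebra k C]
    (f : A →ₐ[k] B) (g : B →ₐ[k] C) : aspMap g ≫ aspMap f = aspMap (g.comp f) := by
  refine Over.OverMorphism.ext ?_
  show Spec.map _ ≫ Spec.map _ = Spec.map _
  rw [← Spec.map_comp]
  rfl

theorem exists_aspMap {A B : Type u} [CommRing A] [Algebra k A] [CommRing B] [Algebra k B] (x : asp k B ⟶ asp k A) :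
    ∃ f : A →ₐ[k] B, x = aspMap f := by
  obtain ⟨i, hi⟩ := Spec.map_surjective x.left
  have h : CommRingCat.ofHom (algebraMap k A) ≫ i = CommRingCat.ofHom (algebraMap k B) := Spec.map_injective (by
    rw [Spec.map_comp, hi]
    exact Over.w x)
  refine ⟨{ i.hom with commutes' := fun r => congrArg (fun t => t.hom r) h }, Over.OverMorphism.ext ?_⟩
  exact hi.symm

theorem aspMap_injective {A B : Type u} [CommRing A] [Algebra k A] [CommRing B] [Algebra k B] {f g : A →ₐ[k] B}
    (h : aspMap f = aspMap g) : f = g := by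
  have h' : Spec.map (CommRingCat.ofHom f.toRingHom) = Spec.map (CommRingCat.ofHom g.toRingHom) :=
    congrArg (fun t => t.left) h
  exact AlgHom.ext fun r => congrArg (fun t => t.hom r) (Spec.map_injective h')

theorem exists_asp_iso (W : Over (Spec (CommRingCat.of k))) [IsAffine W.left] :
    ∃ (A : Type u) (_ : CommRing A) (_ : Algebra k A), Nonempty (asp k A ≅ W) := by
  obtain ⟨i, hi⟩ := Spec.map_surjective (W.left.isoSpec.inv ≫ W.hom)
  letI : Algebra k Γ(W.left, ⊤) := i.hom.toAlgebra
  exact ⟨Γ(W.left, ⊤), inferInstance, inferInstance, ⟨Over.isoMk W.left.isoSpec.symm hi.symm⟩⟩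

/-- The product of two spectra. -/
def aspProd (k A C : Type u) [Field k] [CommRing A] [Algebra k A] [CommRing C] [Algebra k C] :
    asp k (A ⊗[k] C) ⟶ asp k A ⊗ asp k C :=
  lift (aspMap Algebra.TensorProduct.includeLeft) (aspMap Algebra.TensorProduct.includeRight)

instance isIso_aspProd (A C : Type u) [CommRing A] [Algebra k A] [CommRing C] [Algebra k C] :
    IsIso (aspProd k A C) := by
  have h : (aspProd k A C).left = (pullbackSpecIso k A C).inv := by
    refine pullback.hom_ext ?_ ?_
    · refine Eq.trans ?_ (pullbackSpecIso_inv_fst k A C).symm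
      exact congrArg (fun t => t.left) (lift_fst (aspMap (k := k) (Algebra.TensorProduct.includeLeft : A →ₐ[k] A ⊗[k] C))
        (aspMap Algebra.TensorProduct.includeRight))
    · refine Eq.trans ?_ (pullbackSpecIso_inv_snd k A C).symm
      exact congrArg (fun t => t.left) (lift_snd (aspMap (k := k) (Algebra.TensorProduct.includeLeft : A →ₐ[k] A ⊗[k] C))
        (aspMap Algebra.TensorProduct.includeRight))
  haveI : IsIso ((Over.forget _).map (aspProd k A C)) := by
    show IsIso (aspProd k A C).left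
    rw [h]; infer_instance
  exact isIso_of_reflects_iso (aspProd k A C) (Over.forget _)

theorem aspProd_tensorHom {A A' C C' : Type u} [CommRing A] [Algebra k A] [CommRing A'] [Algebra k A'] [CommRing C]
    [Algebra k C] [CommRing C'] [Algebra k C'] (f : A →ₐ[k] A') (g : C →ₐ[k] C') :
    aspProd k A' C' ≫ (aspMap f ⊗ₘ aspMap g) = aspMap (Algebra.TensorProduct.map f g) ≫ aspProd k A C := by
  refine CartesianMonoidalCategory.hom_ext _ _ ?_ ?_
  · rw [Category.assoc, Category.assoc, tensorHom_fst, aspProd, aspProd, lift_fst, lift_fst_assoc, aspMap_comp,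
      aspMap_comp, Algebra.TensorProduct.map_comp_includeLeft]
  · rw [Category.assoc, Category.assoc, tensorHom_snd, aspProd, aspProd, lift_snd, lift_snd_assoc, aspMap_comp,
      aspMap_comp, Algebra.TensorProduct.map_comp_includeRight]

/-- Membership in `B ⊗ C` inside `A ⊗ C` is tested by the functionals killing `B`. -/
theorem mem_range_rTensor {A B C : Type u} [AddCommGroup A] [Module k A] [AddCommGroup B] [Module k B]
    [AddCommGroup C] [Module k C] (f : B →ₗ[k] A) (y : A ⊗[k] C)
    (h : ∀ l : A →ₗ[k] k, l ∘ₗ f = 0 → TensorProduct.lid k C (l.rTensor C y) = 0) :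
    y ∈ LinearMap.range (f.rTensor C) := by
  classical
  let q := (LinearMap.range f).mkQ
  have hex := rTensor_exact C (LinearMap.exact_map_mkQ_range f) (Submodule.mkQ_surjective _)
  refine (hex y).1 ?_
  let b := Module.Free.chooseBasis k (A ⧸ LinearMap.range f)
  refine (TensorProduct.equivFinsuppOfBasisLeft b).injective (Finsupp.ext fun n => ?_)
  rw [map_zero, Finsupp.zero_apply, ← h ((b.coord n).comp q) (by
    ext x
    show b.coord n (q (f x)) = 0
    rw [show q (f x) = 0 from (Submodule.Quotient.mk_eq_zero _).2 (LinearMap.mem_range_self f x), map_zero])]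
  clear h hex
  induction y using TensorProduct.induction_on with
  | zero => simp
  | tmul a c => simp [TensorProduct.equivFinsuppOfBasisLeft_apply_tmul_apply, q]
  | add a c ha hc => simp only [map_add, Finsupp.add_apply, ha, hc]

theorem ext_dominant {W W' Y : Over (Spec (CommRingCat.of k))} (f : W ⟶ W') [IsSchemeTheoreticallyDominant f.left]
    [QuasiCompact f.left] [IsAffine Y.left] {a b : W' ⟶ Y} (h : f ≫ a = f ≫ b) : a = b := by
  refine Over.OverMorphism.ext (ext_of_isAffine (CommRingCat.hom_ext (RingHom.ext fun r => ?_)))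
  refine Scheme.Hom.app_injective f.left ⊤ ?_
  exact congrArg (fun t : W ⟶ Y => t.left.appTop r) h

variable {M G : Over (Spec (CommRingCat.of k))}

theorem quasiCompact_whisker (i : G ⟶ M) [QuasiCompact i.left] (T : Over (Spec (CommRingCat.of k))) :
    QuasiCompact (i ▷ T).left := by
  have hw : IsPullback (pullback.fst G.hom T.hom) (i ▷ T).left i.left (pullback.fst M.hom T.hom) := by
    refine IsPullback.of_bot ?_ (Over.whiskerRight_left_fst _).symm (IsPullback.of_hasPullback M.hom T.hom)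
    rw [Over.w i, Over.whiskerRight_left_snd]
    exact IsPullback.of_hasPullback _ _
  exact MorphismProperty.of_isPullback (P := @QuasiCompact) hw inferInstance

/-- The equivariant maps from an affine monoid into an affine scheme. -/
theorem exists_representable_affine [MonObj M] [GrpObj G] (i : G ⟶ M) [IsMonHom i] [IsAffine M.left]
    [IsAffine G.left] [IsSchemeTheoreticallyDominant i.left] {X : Over (Spec (CommRingCat.of k))} [IsAffine X.left]
    (a : AlgGrp.Action G X) :
    ∃ (Z : Over (Spec (CommRingCat.of k))) (j : Z ⟶ X)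
      (e : (Magnet.MonAct.eqvHom ((Magnet.MonAct.regular M).restrict i) (Magnet.MonAct.ofAction a)).RepresentableBy Z),
      IsClosedImmersion j.left ∧
      ∀ (T : Over (Spec (CommRingCat.of k))) (z : T ⟶ Z),
        (Magnet.MonAct.eqvHom.evalAt ((Magnet.MonAct.regular M).restrict i) (Magnet.MonAct.ofAction a) η[M]).app
          (op T) (e.homEquiv z) = z ≫ j := by
  classical
  haveI : QuasiCompact i.left := inferInstance
  obtain ⟨B, _, _, ⟨m⟩⟩ := exists_asp_iso M
  obtain ⟨A, _, _, ⟨g⟩⟩ := exists_asp_iso G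
  obtain ⟨R, _, _, ⟨x⟩⟩ := exists_asp_iso X
  obtain ⟨f, hf⟩ := exists_aspMap (g.hom ≫ i ≫ m.inv)
  have hfm : aspMap f ≫ m.hom = g.hom ≫ i := by rw [← hf]; simp
  obtain ⟨ρ, hρ⟩ := exists_aspMap (aspProd k A R ≫ (g.hom ⊗ₘ x.hom) ≫ a.act ≫ x.inv)
  -- the ideal
  let coef : (A →ₗ[k] k) → R → R := fun l r => TensorProduct.lid k R (l.rTensor R (ρ r))
  let I : Ideal R := Ideal.span {s | ∃ l : A →ₗ[k] k, l ∘ₗ f.toLinearMap = 0 ∧ ∃ r, s = coef l r}
  let π : R →ₐ[k] R ⧸ I := Ideal.Quotient.mkₐ k I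
  let Z : Over (Spec (CommRingCat.of k)) := asp k (R ⧸ I)
  let j : Z ⟶ X := aspMap π ≫ x.hom
  haveI hj : IsClosedImmersion j.left := by
    haveI : IsClosedImmersion (aspMap π).left :=
      IsClosedImmersion.spec_of_surjective (CommRingCat.ofHom π.toRingHom) Ideal.Quotient.mk_surjective
    exact inferInstanceAs (IsClosedImmersion ((aspMap π).left ≫ x.hom.left))
  haveI : Mono j := Over.mono_of_mono_left j
  have coef_map : ∀ (C : Type u) [CommRing C] [Algebra k C] (χ : R →ₐ[k] C) (l : A →ₗ[k] k) (r : R),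
      TensorProduct.lid k C (l.rTensor C (Algebra.TensorProduct.map (AlgHom.id k A) χ (ρ r))) = χ (coef l r) := by
    intro C _ _ χ l r
    show _ = χ (TensorProduct.lid k R (l.rTensor R (ρ r)))
    induction ρ r using TensorProduct.induction_on with
    | zero => simp
    | tmul p q => simp [map_smul]
    | add p q hp hq => simp only [map_add, hp, hq]
  -- the universal family
  let F : B ⊗[k] (R ⧸ I) →ₐ[k] A ⊗[k] (R ⧸ I) := Algebra.TensorProduct.map f (AlgHom.id k _)
  have hfinj : Function.Injective f := by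
    have hs : IsSchemeTheoreticallyDominant (aspMap f).left := by
      have e : (aspMap f).left = g.hom.left ≫ i.left ≫ m.inv.left := congrArg (fun t => t.left) hf.symm
      rw [e]; infer_instance
    haveI := hs
    haveI : QuasiCompact (aspMap f).left := inferInstanceAs (QuasiCompact (Spec.map (CommRingCat.ofHom f.toRingHom)))
    intro p q hpq
    have h := Scheme.Hom.app_injective (aspMap f).left ⊤
      (a₁ := (Scheme.ΓSpecIso (CommRingCat.of B)).inv p) (a₂ := (Scheme.ΓSpecIso (CommRingCat.of B)).inv q) (by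
      show (Spec.map (CommRingCat.ofHom f.toRingHom)).appTop _ = (Spec.map (CommRingCat.ofHom f.toRingHom)).appTop _
      rw [← CommRingCat.comp_apply, ← CommRingCat.comp_apply, ← Scheme.ΓSpecIso_inv_naturality,
        CommRingCat.comp_apply, CommRingCat.comp_apply]
      exact congrArg _ hpq)
    simpa using congrArg (Scheme.ΓSpecIso (CommRingCat.of B)).hom h
  have hFinj : Function.Injective F :=
    Module.Flat.rTensor_preserves_injective_linearMap (M := R ⧸ I) f.toLinearMap hfinj
  have hmem : ∀ r, Algebra.TensorProduct.map (AlgHom.id k A) π (ρ r) ∈ F.range := by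
    intro r
    obtain ⟨w, hw⟩ := mem_range_rTensor f.toLinearMap (Algebra.TensorProduct.map (AlgHom.id k A) π (ρ r))
      (fun l hl => by
        rw [coef_map]
        exact Ideal.Quotient.eq_zero_iff_mem.2 (Ideal.subset_span ⟨l, hl, r, rfl⟩))
    exact ⟨w, hw⟩
  let ρ0 : R →ₐ[k] B ⊗[k] (R ⧸ I) := (AlgEquiv.ofInjective F hFinj).symm.toAlgHom.comp
    (((Algebra.TensorProduct.map (AlgHom.id k A) π).comp ρ).codRestrict F.range hmem)
  have hρ0 : F.comp ρ0 = (Algebra.TensorProduct.map (AlgHom.id k A) π).comp ρ := AlgHom.ext fun r =>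
    congrArg Subtype.val ((AlgEquiv.ofInjective F hFinj).apply_symm_apply ⟨_, hmem r⟩)
  let φ0 : M ⊗ Z ⟶ X := (m.inv ⊗ₘ 𝟙 Z) ≫ inv (aspProd k B (R ⧸ I)) ≫ aspMap ρ0 ≫ x.hom
  have hact : ∀ (C : Type u) [CommRing C] [Algebra k C] (χ : R →ₐ[k] C),
      aspProd k A C ≫ (g.hom ⊗ₘ (aspMap χ ≫ x.hom)) ≫ a.act =
        aspMap ((Algebra.TensorProduct.map (AlgHom.id k A) χ).comp ρ) ≫ x.hom := by
    intro C _ _ χ
    have e : aspMap (AlgHom.id k A) = 𝟙 (asp k A) := Over.OverMorphism.ext (Spec.map_id _)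
    have h1 := aspProd_tensorHom (AlgHom.id k A) χ
    rw [e] at h1
    rw [← aspMap_comp, ← hρ, Category.assoc, Category.assoc, Category.assoc, Category.assoc, Iso.inv_hom_id,
      Category.comp_id, ← reassoc_of% h1, MonoidalCategory.tensorHom_comp_tensorHom_assoc, Category.id_comp]
  have hres : ∀ (C : Type u) [CommRing C] [Algebra k C],
      aspProd k A C ≫ (g.hom ⊗ₘ 𝟙 (asp k C)) ≫ (i ▷ asp k C) =
        aspMap (Algebra.TensorProduct.map f (AlgHom.id k C)) ≫ aspProd k B C ≫ (m.hom ⊗ₘ 𝟙 (asp k C)) := by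
    intro C _ _
    have e : aspMap (AlgHom.id k C) = 𝟙 (asp k C) := Over.OverMorphism.ext (Spec.map_id _)
    have h1 := aspProd_tensorHom f (AlgHom.id k C)
    rw [e] at h1
    rw [← reassoc_of% h1, MonoidalCategory.tensorHom_comp_tensorHom, hfm, ← MonoidalCategory.tensorHom_id,
      MonoidalCategory.tensorHom_comp_tensorHom]
  have hφ0 : (i ▷ Z) ≫ φ0 = (G ◁ j) ≫ a.act := by
    rw [← cancel_epi (g.hom ⊗ₘ 𝟙 Z), ← cancel_epi (aspProd k A (R ⧸ I)), ← MonoidalCategory.id_tensorHom,
      MonoidalCategory.tensorHom_comp_tensorHom_assoc, Category.comp_id, Category.id_comp, hact (R ⧸ I) π,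
      reassoc_of% (hres (R ⧸ I))]
    simp only [φ0, MonoidalCategory.tensorHom_comp_tensorHom_assoc, Iso.hom_inv_id, Category.comp_id,
      MonoidalCategory.id_tensorHom_id, Category.id_comp, IsIso.hom_inv_id_assoc]
    erw [MonoidalCategory.id_tensorHom_id, Category.id_comp]
    rw [IsIso.hom_inv_id_assoc, ← Category.assoc, aspMap_comp]
    exact congrArg (fun t => aspMap t ≫ x.hom) hρ0
  have hdom : ∀ T : Over (Spec (CommRingCat.of k)),
      IsSchemeTheoreticallyDominant (i ▷ T).left ∧ QuasiCompact (i ▷ T).left :=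
    fun T => ⟨dominant_whisker i T, quasiCompact_whisker i T⟩
  have hpt : ∀ (W : Over (Spec (CommRingCat.of k))) (h : W ⟶ G) (z : W ⟶ Z),
      lift (h ≫ i) z ≫ φ0 = lift h (z ≫ j) ≫ a.act := fun W h z => by
    rw [← lift_whiskerRight_assoc, hφ0, lift_whiskerLeft_assoc]
  -- equivariance
  have heq : Magnet.MonAct.IsEquivariant (((Magnet.MonAct.regular M).restrict i).prod (Magnet.MonAct.trivial G Z))
      (Magnet.MonAct.ofAction a) φ0 := by
    let α : G ⊗ (G ⊗ Z) ⟶ M ⊗ (G ⊗ Z) := i ▷ (G ⊗ Z)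
    let σ : M ⊗ (G ⊗ Z) ≅ G ⊗ (M ⊗ Z) :=
      { hom := lift (snd _ _ ≫ fst _ _) (lift (fst _ _) (snd _ _ ≫ snd _ _))
        inv := lift (snd _ _ ≫ fst _ _) (lift (fst _ _) (snd _ _ ≫ snd _ _)) }
    haveI := (hdom (G ⊗ Z)).1
    haveI := (hdom (G ⊗ Z)).2
    unfold Magnet.MonAct.IsEquivariant
    haveI : IsIso σ.hom := ⟨σ.inv, σ.hom_inv_id, σ.inv_hom_id⟩
    refine (cancel_epi σ.hom).1 ?_
    refine ext_dominant α ?_
    refine Magnet.hom_ext_lift₂ fun W h p => ?_
    obtain ⟨h', z, rfl⟩ : ∃ (h' : W ⟶ G) (z : W ⟶ Z), p = lift h' z :=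
      ⟨p ≫ fst _ _, p ≫ snd _ _, by ext <;> simp⟩
    have e1 : lift h (lift h' z) ≫ α ≫ σ.hom = lift h' (lift (h ≫ i) z) := by
      simp only [α, σ, lift_whiskerRight_assoc, comp_lift, lift_fst, lift_snd_assoc, lift_snd]
    rw [reassoc_of% e1, reassoc_of% e1, Magnet.MonAct.lift_prod_act_assoc, Magnet.MonAct.lift_trivial_act,
      Magnet.MonAct.lift_restrict_act, Magnet.MonAct.lift_regular_act, ← MonObj.mul_comp, hpt,
      lift_whiskerLeft_assoc, hpt, Magnet.MonAct.ofAction_act]
    exact (Magnet.MonAct.ofAction a).lift_mul_act h' h (z ≫ j)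
  let D := Magnet.MonAct.eqvHom ((Magnet.MonAct.regular M).restrict i) (Magnet.MonAct.ofAction a)
  let u0 : D.obj (op Z) := ⟨φ0, heq⟩
  let ev := fun (T : Over (Spec (CommRingCat.of k))) (φ : D.obj (op T)) =>
    (Magnet.MonAct.eqvHom.evalAt ((Magnet.MonAct.regular M).restrict i) (Magnet.MonAct.ofAction a) η[M]).app (op T) φ
  have hev : ∀ (T : Over (Spec (CommRingCat.of k))) (z : T ⟶ Z), ev T (D.map z.op u0) = z ≫ j := by
    intro T z
    show lift (toUnit T ≫ η[M]) (𝟙 T) ≫ (M ◁ z) ≫ φ0 = z ≫ j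
    rw [lift_whiskerLeft_assoc, Category.id_comp, ← Hom.one_def,
      show (1 : T ⟶ M) = (1 : T ⟶ G) ≫ i from (MonObj.one_comp i).symm, hpt]
    exact (Magnet.MonAct.ofAction a).lift_one_act (z ≫ j)
  have hres' : ∀ (T : Over (Spec (CommRingCat.of k))) (φ : D.obj (op T)),
      (i ▷ T) ≫ φ.1 = (G ◁ ev T φ) ≫ a.act := by
    intro T φ
    refine Magnet.hom_ext_lift₂ fun W h t => ?_
    have h2 := (Magnet.MonAct.mem_eqvHom_iff φ.1).1 φ.2 W h (toUnit W ≫ η[M]) t
    rw [Magnet.MonAct.lift_restrict_act, Magnet.MonAct.lift_regular_act, ← Hom.one_def, _root_.mul_one] at h2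
    rw [lift_whiskerRight_assoc, lift_whiskerLeft_assoc, h2]
    show lift h (lift 1 t ≫ φ.1) ≫ a.act = lift h (t ≫ lift (toUnit T ≫ η[M]) (𝟙 T) ≫ φ.1) ≫ a.act
    rw [comp_lift_assoc, comp_toUnit_assoc, Category.comp_id, Hom.one_def]
  have hinj : ∀ (T : Over (Spec (CommRingCat.of k))), Function.Injective (ev T) := by
    intro T φ₁ φ₂ h
    haveI := (hdom T).1
    haveI := (hdom T).2
    exact Subtype.ext (ext_dominant (i ▷ T) (by rw [hres', hres', h]))
  -- on affine schemes the value at the unit lands in `Z`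
  have haff : ∀ (C : Type u) [CommRing C] [Algebra k C] (φ : D.obj (op (asp k C))),
      ∃ z : asp k C ⟶ Z, z ≫ j = ev _ φ := by
    intro C _ _ φ
    obtain ⟨χ, hχ⟩ := exists_aspMap (ev _ φ ≫ x.inv)
    have hχ' : ev _ φ = aspMap χ ≫ x.hom := by rw [← hχ, Category.assoc, Iso.inv_hom_id, Category.comp_id]; rfl
    obtain ⟨ψ, hψ⟩ := exists_aspMap (aspProd k B C ≫ (m.hom ⊗ₘ 𝟙 (asp k C)) ≫ φ.1 ≫ x.inv)
    have h1 : (Algebra.TensorProduct.map f (AlgHom.id k C)).comp ψ =
        (Algebra.TensorProduct.map (AlgHom.id k A) χ).comp ρ := by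
      refine aspMap_injective ?_
      rw [← cancel_mono x.hom, ← hact C χ, ← hχ', ← aspMap_comp, ← hψ]
      simp only [Category.assoc, Iso.inv_hom_id, Category.comp_id]
      rw [← reassoc_of% (hres C), hres', ← MonoidalCategory.id_tensorHom,
        MonoidalCategory.tensorHom_comp_tensorHom_assoc, Category.comp_id, Category.id_comp]
      all_goals rfl
    have hI : ∀ s ∈ I, χ s = 0 := by
      have : I ≤ RingHom.ker χ := by
        refine Ideal.span_le.2 ?_
        rintro s ⟨l, hl, r, rfl⟩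
        show χ (coef l r) = 0
        rw [← coef_map]
        have e := congrArg (fun t : R →ₐ[k] A ⊗[k] C => t r) h1
        show TensorProduct.lid k C (l.rTensor C (((Algebra.TensorProduct.map (AlgHom.id k A) χ).comp ρ) r)) = 0
        rw [← h1]
        show TensorProduct.lid k C (l.rTensor C (f.toLinearMap.rTensor C (ψ r))) = 0
        rw [← LinearMap.rTensor_comp_apply, hl, LinearMap.rTensor_zero, LinearMap.zero_apply, map_zero]
      exact fun s hs => this hs
    refine ⟨aspMap (Ideal.Quotient.liftₐ I χ hI), ?_⟩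
    rw [hχ', ← Category.assoc, aspMap_comp]
    congr 2
  have hsurj : ∀ (T : Over (Spec (CommRingCat.of k))) (φ : D.obj (op T)), ∃ z : T ⟶ Z, z ≫ j = ev T φ := by
    intro T φ
    let 𝒰 := T.left.affineCover
    have key : ∀ p, ∃ zp : 𝒰.X p ⟶ Z.left, zp ≫ j.left = 𝒰.f p ≫ (ev T φ).left := by
      intro p
      haveI : IsAffine (Over.mk (𝒰.f p ≫ T.hom)).left := inferInstanceAs (IsAffine (𝒰.X p))
      obtain ⟨C, _, _, ⟨c⟩⟩ := exists_asp_iso (Over.mk (𝒰.f p ≫ T.hom))
      let t : Over.mk (𝒰.f p ≫ T.hom) ⟶ T := Over.homMk (𝒰.f p) rfl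
      obtain ⟨z, hz⟩ := haff C (D.map (c.hom ≫ t).op φ)
      have hn : ev _ (D.map (c.hom ≫ t).op φ) = (c.hom ≫ t) ≫ ev T φ :=
        congrArg (fun h => h φ) ((Magnet.MonAct.eqvHom.evalAt ((Magnet.MonAct.regular M).restrict i)
          (Magnet.MonAct.ofAction a) η[M]).naturality (c.hom ≫ t).op)
      refine ⟨(c.inv ≫ z).left, ?_⟩
      rw [← Over.comp_left, Category.assoc, hz, hn, Category.assoc, Iso.inv_hom_id_assoc]
      rfl
    choose zp hzp using key
    have hglue : ∀ p q, pullback.fst (𝒰.f p) (𝒰.f q) ≫ zp p = pullback.snd (𝒰.f p) (𝒰.f q) ≫ zp q := fun p q => by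
      rw [← cancel_mono j.left, Category.assoc, Category.assoc, hzp, hzp, pullback.condition_assoc]
    let zl := 𝒰.glueMorphisms zp hglue
    have hzl : zl ≫ j.left = (ev T φ).left := 𝒰.hom_ext _ _ fun p => by
      rw [Scheme.Cover.ι_glueMorphisms_assoc, hzp]
    exact ⟨Over.homMk zl (by rw [← Over.w j, ← Category.assoc, hzl]; exact Over.w _), Over.OverMorphism.ext hzl⟩
  let e : D.RepresentableBy Z :=
    { homEquiv := fun {T} => Equiv.ofBijective (fun z => D.map z.op u0)
        ⟨fun z₁ z₂ h => (cancel_mono j).1 (by rw [← hev, ← hev]; exact congrArg (ev T) h), fun φ => by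
          obtain ⟨z, hz⟩ := hsurj T φ
          exact ⟨z, hinj T ((hev T z).trans hz)⟩⟩
      homEquiv_comp := fun {T T'} t z => by
        show D.map (t ≫ z).op u0 = D.map t.op (D.map z.op u0)
        rw [op_comp, Functor.map_comp]
        rfl }
  exact ⟨Z, j, e, hj, hev⟩

end Groth.Agent.MagnetDense
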