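import Groth.Prelude.Def_Magnet2
import Mathlib.AlgebraicGeometry.Morphisms.SchemeTheoreticallyDominant
import Mathlib.AlgebraicGeometry.Morphisms.ClosedImmersion
import Mathlib.AlgebraicGeometry.Morphisms.Flat

/-!
# Extension of actions along schematically dense open submonoids
-/

set_option autoImplicit false
set_option backward.isDefEq.respectTransparency false
set_option linter.style.haveILetI false
set_option linter.unusedSimpArgs false

universe u

open CategoryTheory CategoryTheory.Limits MonoidalCategory CartesianMonoidalCategory MonObj AlgebraicGeometry Opposite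

namespace Groth.Agent.MagnetDense

variable {k : Type u} [Field k] {M G : Over (Spec (CommRingCat.of k))} (i : G ⟶ M)
  [QuasiCompact i.left] [IsSchemeTheoreticallyDominant i.left]

theorem dominant_whisker (T : Over (Spec (CommRingCat.of k))) : IsSchemeTheoreticallyDominant (i ▷ T).left := by
  haveI : Subsingleton (Spec (CommRingCat.of k)) := inferInstanceAs (Subsingleton (PrimeSpectrum k))
  haveI : IsIntegral (Spec (CommRingCat.of k)) := inferInstance
  haveI : Flat T.hom := inferInstance
  haveI : Flat (pullback.fst M.hom T.hom) := MorphismProperty.pullback_fst _ _ inferInstance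
  have hw : IsPullback (pullback.fst G.hom T.hom) (i ▷ T).left i.left (pullback.fst M.hom T.hom) := by
    refine IsPullback.of_bot ?_ (Over.whiskerRight_left_fst _).symm (IsPullback.of_hasPullback M.hom T.hom)
    rw [Over.w i, Over.whiskerRight_left_snd]
    exact IsPullback.of_hasPullback _ _
  exact IsSchemeTheoreticallyDominant.of_isPullback hw

theorem exists_lift {X Z : Over (Spec (CommRingCat.of k))} (j : Z ⟶ X) [IsClosedImmersion j.left]
    (T : Over (Spec (CommRingCat.of k))) (φ : M ⊗ T ⟶ X) (ψ : G ⊗ T ⟶ Z) (h : (i ▷ T) ≫ φ = ψ ≫ j) :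
    ∃ l : M ⊗ T ⟶ Z, l ≫ j = φ ∧ (i ▷ T) ≫ l = ψ := by
  haveI := dominant_whisker i T
  haveI : Mono j := Over.mono_of_mono_left j
  let e := pullback.fst φ.left j.left
  haveI : IsClosedImmersion e := MorphismProperty.pullback_fst _ _ inferInstance
  let l₀ : (G ⊗ T).left ⟶ pullback φ.left j.left :=
    pullback.lift (i ▷ T).left ψ.left (congrArg CommaMorphism.left h)
  haveI : IsIso e := by
    rw [IsClosedImmersion.isIso_iff_ker_eq_bot, ← le_bot_iff, ← (i ▷ T).left.ker_eq_bot,
      ← pullback.lift_fst (i ▷ T).left ψ.left (congrArg CommaMorphism.left h)]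
    exact Scheme.Hom.le_ker_comp l₀ e
  let l : M ⊗ T ⟶ Z := Over.homMk (inv e ≫ pullback.snd _ _) (by
    rw [Category.assoc, IsIso.inv_comp_eq, ← Over.w j, ← Category.assoc (pullback.snd _ _),
      ← pullback.condition, Category.assoc, Over.w φ])
  have hl : l ≫ j = φ := Over.OverMorphism.ext (by
    show (inv e ≫ pullback.snd _ _) ≫ j.left = φ.left
    rw [Category.assoc, IsIso.inv_comp_eq, pullback.condition])
  exact ⟨l, hl, by rw [← cancel_mono j, Category.assoc, hl, h]⟩

/-- An action on the ambient scheme restricts to an invariant closed subscheme. -/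
theorem exists_monAct [MonObj M] [GrpObj G] [IsMonHom i] {X Z : Over (Spec (CommRingCat.of k))}
    (a : Magnet.MonAct M X) (b : AlgGrp.Action G Z) (j : Z ⟶ X) [IsClosedImmersion j.left]
    (hj : Magnet.MonAct.IsEquivariant (Magnet.MonAct.ofAction b) (a.restrict i) j) :
    ∃ c : Magnet.MonAct M Z, Magnet.MonAct.IsEquivariant c a j ∧ c.restrict i = Magnet.MonAct.ofAction b := by
  haveI : Mono j := Over.mono_of_mono_left j
  have h : (i ▷ Z) ≫ (M ◁ j) ≫ a.act = b.act ≫ j := by
    rw [← whisker_exchange_assoc]; exact hj.symm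
  obtain ⟨l, hl, hl'⟩ := exists_lift i j Z ((M ◁ j) ≫ a.act) b.act h
  refine ⟨Magnet.MonAct.mk' l (fun T x => ?_) (fun T g h' x => ?_), hl, Magnet.MonAct.ext' hl'⟩
  · rw [← cancel_mono j, Category.assoc, hl, lift_whiskerLeft_assoc, a.lift_one_act]
  · rw [← cancel_mono j, Category.assoc, hl, lift_whiskerLeft_assoc, a.lift_mul_act,
      Category.assoc, hl, lift_whiskerLeft_assoc, Category.assoc, hl, lift_whiskerLeft_assoc]

open Magnet in
/-- Equivariant families out of the monoid with value in an invariant closed subscheme. -/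
theorem isPullback_eqvHom [MonObj M] [GrpObj G] [IsMonHom i] {X Z : Over (Spec (CommRingCat.of k))}
    (aX : AlgGrp.Action G X) (aZ : AlgGrp.Action G Z) (j : Z ⟶ X) [IsClosedImmersion j.left]
    (hj : MonAct.IsEquivariant (MonAct.ofAction aZ) (MonAct.ofAction aX) j) :
    IsPullback (MonAct.eqvHom.postcomp ((MonAct.regular M).restrict i) j hj)
      (MonAct.eqvHom.evalAt ((MonAct.regular M).restrict i) (MonAct.ofAction aZ) η[M])
      (MonAct.eqvHom.evalAt ((MonAct.regular M).restrict i) (MonAct.ofAction aX) η[M]) (yoneda.map j) := by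
  haveI : Mono j := Over.mono_of_mono_left j
  have hw : MonAct.eqvHom.postcomp ((MonAct.regular M).restrict i) j hj ≫
      MonAct.eqvHom.evalAt ((MonAct.regular M).restrict i) (MonAct.ofAction aX) η[M] =
      MonAct.eqvHom.evalAt ((MonAct.regular M).restrict i) (MonAct.ofAction aZ) η[M] ≫ yoneda.map j := by
    ext T φ
    exact (Category.assoc _ _ _).symm
  refine IsPullback.of_isLimit' ⟨hw⟩ (Limits.evaluationJointlyReflectsLimits _ fun T =>
    (Limits.isLimitMapConePullbackConeEquiv ((evaluation _ _).obj T) hw).symm ?_)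
  refine IsPullback.isLimit (h := ?_)
  rw [Limits.Types.isPullback_iff]
  refine ⟨congrArg (fun t => NatTrans.app t T) hw, ?_, ?_⟩
  · rintro φ₁ φ₂ ⟨h1, -⟩
    exact Subtype.ext ((cancel_mono j).1 (congrArg Subtype.val h1))
  · intro φ z h
    have h' : lift (toUnit (unop T) ≫ η[M]) (𝟙 (unop T)) ≫ φ.1 = z ≫ j := h
    have hφ := φ.2
    rw [MonAct.mem_eqvHom_iff] at hφ
    have hi : (i ▷ unop T) ≫ φ.1 = (lift (fst _ _) (snd _ _ ≫ z) ≫ aZ.act) ≫ j := by
      refine Magnet.hom_ext_lift₂ fun W g t => ?_
      rw [lift_whiskerRight_assoc]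
      simp only [comp_lift_assoc, lift_fst, lift_snd_assoc, Category.assoc]
      rw [MonAct.isEquivariant_iff] at hj
      have e := hφ W g (toUnit W ≫ η[M]) t
      rw [MonAct.lift_restrict_act, MonAct.lift_regular_act, ← Hom.one_def, _root_.mul_one] at e
      rw [e]
      refine Eq.trans ?_ (hj W g (t ≫ z)).symm
      congr 2
      rw [Category.assoc, ← h', comp_lift_assoc, comp_toUnit_assoc, Category.comp_id, Hom.one_def]
    obtain ⟨l, hl, -⟩ := exists_lift i j (unop T) φ.1 _ hi
    have hle : MonAct.IsEquivariant (((MonAct.regular M).restrict i).prod (MonAct.trivial G (unop T))) (MonAct.ofAction aZ) l := by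
      have hφ2 := φ.2
      rw [MonAct.isEquivariant_iff] at hφ2 hj ⊢
      intro T' g x
      rw [← cancel_mono j, Category.assoc, Category.assoc, Category.assoc, hl, hφ2, hj, Category.assoc, hl]
    refine ⟨⟨l, hle⟩, Subtype.ext hl, ?_⟩
    show lift (toUnit (unop T) ≫ η[M]) (𝟙 (unop T)) ≫ l = z
    rw [← cancel_mono j, Category.assoc, hl]
    exact h'

end Groth.Agent.MagnetDense
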