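import Groth.Prelude.Def_Magnet2
import Mathlib.AlgebraicGeometry.PullbackCarrier
import Mathlib.AlgebraicGeometry.ResidueField
import Mathlib.AlgebraicGeometry.Morphisms.OpenImmersion

/-!
# Equivariant families over a monoid with zero and invariant opens
-/

set_option autoImplicit false
set_option backward.isDefEq.respectTransparency false
set_option linter.style.haveILetI false
set_option linter.unusedSimpArgs false

universe u

open CategoryTheory CategoryTheory.Limits MonoidalCategory CartesianMonoidalCategory MonObj AlgebraicGeometry Opposite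
open Magnet

namespace Groth.Agent.MagnetDense

variable {k : Type u} [Field k] {M G X U : Over (Spec (CommRingCat.of k))} [MonObj M] [GrpObj G]
  (i : G ⟶ M) [IsMonHom i] (o : 𝟙_ (Over (Spec (CommRingCat.of k))) ⟶ M)

/-- The hypothesis that the only invariant open containing the zero is everything. -/
def ZeroAbsorbs : Prop :=
  ∀ (T : Over (Spec (CommRingCat.of k))) (K : Type u) [Field K] (eT : T.left ≅ Spec (CommRingCat.of K))
    (W : (M ⊗ T).left.Opens),
    (snd G (M ⊗ T)).left ⁻¹ᵁ W ≤ ((((MonAct.regular M).restrict i).prod (MonAct.trivial G T)).act).left ⁻¹ᵁ W →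
    (lift (toUnit T ≫ o) (𝟙 T)).left ⁻¹ᵁ W = ⊤ → W = ⊤

theorem preimage_eq_top (hM : ZeroAbsorbs i o) (aX : AlgGrp.Action G X) (aU : AlgGrp.Action G U) (j : U ⟶ X)
    [IsOpenImmersion j.left] (hj : MonAct.IsEquivariant (MonAct.ofAction aU) (MonAct.ofAction aX) j)
    {T : Over (Spec (CommRingCat.of k))} (φ : M ⊗ T ⟶ X)
    (hφ : MonAct.IsEquivariant (((MonAct.regular M).restrict i).prod (MonAct.trivial G T)) (MonAct.ofAction aX) φ)
    (z : T ⟶ U) (hz : lift (toUnit T ≫ o) (𝟙 T) ≫ φ = z ≫ j) :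
    φ.left ⁻¹ᵁ j.left.opensRange = ⊤ := by
  ext p
  simp only [TopologicalSpace.Opens.coe_top, Set.mem_univ, iff_true]
  let t := (snd M T).left p
  let T' : Over (Spec (CommRingCat.of k)) := Over.mk (T.left.fromSpecResidueField t ≫ T.hom)
  let g : T' ⟶ T := Over.homMk (T.left.fromSpecResidueField t) rfl
  let ψ := (M ◁ g) ≫ φ
  have hψ : MonAct.IsEquivariant (((MonAct.regular M).restrict i).prod (MonAct.trivial G T')) (MonAct.ofAction aX) ψ := by
    rw [MonAct.mem_eqvHom_iff] at hφ ⊢
    intro W gg b s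
    simp only [ψ, lift_whiskerLeft_assoc]
    exact hφ W gg b (s ≫ g)
  let W : (M ⊗ T').left.Opens := ψ.left ⁻¹ᵁ j.left.opensRange
  have h1 : (snd G (M ⊗ T')).left ⁻¹ᵁ W ≤
      ((((MonAct.regular M).restrict i).prod (MonAct.trivial G T')).act).left ⁻¹ᵁ W := by
    intro q hq
    let Q : Over (Spec (CommRingCat.of k)) :=
      Over.mk ((G ⊗ (M ⊗ T')).left.fromSpecResidueField q ≫ (G ⊗ (M ⊗ T')).hom)
    let x : Q ⟶ G ⊗ (M ⊗ T') := Over.homMk ((G ⊗ (M ⊗ T')).left.fromSpecResidueField q) rfl
    obtain ⟨c, hc⟩ : ∃ c : Q.left, x.left c = q := ⟨_, Scheme.fromSpecResidueField_apply q (IsLocalRing.closedPoint _)⟩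
    have hin : ∀ c' : Q.left, (x ≫ snd _ _ ≫ ψ).left c' ∈ j.left.opensRange := by
      intro c'
      have e : x.left c' = q := Scheme.fromSpecResidueField_apply q c'
      show ((snd G (M ⊗ T')).left ≫ ψ.left) (x.left c') ∈ j.left.opensRange
      rw [e]
      exact hq
    let xu : Q ⟶ U := Over.homMk (IsOpenImmersion.lift j.left (x ≫ snd _ _ ≫ ψ).left (by
      rintro _ ⟨c', rfl⟩; exact hin c')) (by
      rw [← Over.w j, IsOpenImmersion.lift_fac_assoc, Over.w])
    have hxu : xu ≫ j = x ≫ snd _ _ ≫ ψ := Over.OverMorphism.ext (IsOpenImmersion.lift_fac _ _ _)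
    rw [MonAct.isEquivariant_iff] at hψ hj
    have e : x ≫ (((MonAct.regular M).restrict i).prod (MonAct.trivial G T')).act ≫ ψ =
        (lift (x ≫ fst _ _) xu ≫ aU.act) ≫ j := by
      have h := hψ Q (x ≫ fst _ _) (x ≫ snd _ _)
      rw [lift_comp_fst_snd] at h
      rw [h, Category.assoc, ← hxu]
      exact (hj Q (x ≫ fst _ _) xu).symm
    show ((((MonAct.regular M).restrict i).prod (MonAct.trivial G T')).act.left ≫ ψ.left) q ∈ j.left.opensRange
    rw [← hc]
    have e' := congrArg (fun m => m.left c) e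
    simp only [Over.comp_left, Scheme.Hom.comp_apply] at e' ⊢
    exact ⟨_, e'.symm⟩
  have h2 : (lift (toUnit T' ≫ o) (𝟙 T')).left ⁻¹ᵁ W = ⊤ := by
    have e : lift (toUnit T' ≫ o) (𝟙 T') ≫ ψ = (g ≫ z) ≫ j := by
      rw [Category.assoc, ← hz, comp_lift_assoc, comp_toUnit_assoc, Category.comp_id, lift_whiskerLeft_assoc, Category.id_comp]
    ext c
    simp only [TopologicalSpace.Opens.coe_top, Set.mem_univ, iff_true]
    show ((lift (toUnit T' ≫ o) (𝟙 T')).left ≫ ψ.left) c ∈ j.left.opensRange
    have e' := congrArg (fun m => m.left c) e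
    simp only [Over.comp_left, Scheme.Hom.comp_apply] at e' ⊢
    exact ⟨_, e'.symm⟩
  have hW := hM T' (T.left.residueField t) (Iso.refl _) W h1 h2
  obtain ⟨p', hp'⟩ : p ∈ Set.range (M ◁ g).left := by
    have hsq : IsPullback (M ◁ g).left (snd M T').left (snd M T).left g.left := by
      refine IsPullback.of_right (h₁₂ := pullback.fst M.hom T.hom) (v₁₁ := (snd M T').left)
        (v₁₃ := M.hom) (h₂₂ := T.hom) ?_ ?_ (IsPullback.of_hasPullback _ _)
      · rw [Over.whiskerLeft_left_fst]
        exact IsPullback.of_hasPullback M.hom T'.hom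
      · exact congrArg CommaMorphism.left (whiskerLeft_snd M g)
    obtain ⟨p', h', -⟩ := Scheme.Pullback.exists_preimage_pullback (f := (snd M T).left) (g := g.left) p
      (IsLocalRing.closedPoint _) (Scheme.fromSpecResidueField_apply t _).symm
    refine ⟨hsq.isoPullback.inv p', ?_⟩
    rw [← Scheme.Hom.comp_apply, hsq.isoPullback_inv_fst]
    exact h'
  have hmem : p' ∈ W := by rw [hW]; trivial
  show φ.left p ∈ j.left.opensRange
  rw [← hp']
  exact hmem

/-- The square of equivariant families is cartesian. -/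
theorem isPullback_eqvHom_open (hM : ZeroAbsorbs i o) (aX : AlgGrp.Action G X) (aU : AlgGrp.Action G U) (j : U ⟶ X)
    [IsOpenImmersion j.left] (hj : MonAct.IsEquivariant (MonAct.ofAction aU) (MonAct.ofAction aX) j) :
    IsPullback (MonAct.eqvHom.postcomp ((MonAct.regular M).restrict i) j hj)
      (MonAct.eqvHom.evalAt ((MonAct.regular M).restrict i) (MonAct.ofAction aU) o)
      (MonAct.eqvHom.evalAt ((MonAct.regular M).restrict i) (MonAct.ofAction aX) o) (yoneda.map j) := by
  haveI : Mono j := Over.mono_of_mono_left j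
  have hw : MonAct.eqvHom.postcomp ((MonAct.regular M).restrict i) j hj ≫
      MonAct.eqvHom.evalAt ((MonAct.regular M).restrict i) (MonAct.ofAction aX) o =
      MonAct.eqvHom.evalAt ((MonAct.regular M).restrict i) (MonAct.ofAction aU) o ≫ yoneda.map j := by
    ext T φ
    exact (Category.assoc _ _ _).symm
  refine IsPullback.of_isLimit' ⟨hw⟩ (Limits.evaluationJointlyReflectsLimits _ fun T =>
    (Limits.isLimitMapConePullbackConeEquiv ((evaluation _ _).obj T) hw).symm ?_)
  refine IsPullback.isLimit (h := ?_)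
  rw [Limits.Types.isPullback_iff]
  refine ⟨congrArg (fun t => NatTrans.app t T) hw, ?_, ?_⟩
  · rintro φ₁ φ₂ ⟨h1, -⟩
    exact Subtype.ext ((cancel_mono j).1 (congrArg Subtype.val h1))
  · intro φ z h
    have h' : lift (toUnit (unop T) ≫ o) (𝟙 (unop T)) ≫ φ.1 = z ≫ j := h
    have htop := preimage_eq_top i o hM aX aU j hj φ.1 φ.2 z h'
    let l : M ⊗ unop T ⟶ U := Over.homMk (IsOpenImmersion.lift j.left φ.1.left (by
      rintro _ ⟨c, rfl⟩
      exact (show c ∈ φ.1.left ⁻¹ᵁ j.left.opensRange by rw [htop]; trivial))) (by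
      rw [← Over.w j, IsOpenImmersion.lift_fac_assoc, Over.w])
    have hl : l ≫ j = φ.1 := Over.OverMorphism.ext (IsOpenImmersion.lift_fac _ _ _)
    have hle : MonAct.IsEquivariant (((MonAct.regular M).restrict i).prod (MonAct.trivial G (unop T))) (MonAct.ofAction aU) l := by
      have hφ2 := φ.2
      rw [MonAct.isEquivariant_iff] at hφ2 hj ⊢
      intro T' g x
      rw [← cancel_mono j, Category.assoc, Category.assoc, Category.assoc, hl, hφ2, hj, Category.assoc, hl]
    refine ⟨⟨l, hle⟩, Subtype.ext hl, ?_⟩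
    show lift (toUnit (unop T) ≫ o) (𝟙 (unop T)) ≫ l = z
    rw [← cancel_mono j, Category.assoc, hl]
    exact h'

end Groth.Agent.MagnetDense
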