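import Groth.Agent.MagnetDense.Affine
import Groth.Agent.MagnetDense.Open
import Groth.Agent.MagnetAttr.Sheaf
import Groth.Agent.OverGlueRep.Main
import Mathlib

/-!
# Equivariant maps out of a monoid with zero into a scheme covered at fixed points by stable affine opens
-/

set_option autoImplicit false
set_option backward.isDefEq.respectTransparency false
set_option backward.isDefEq.respectTransparency.types false
set_option linter.style.haveILetI false
set_option maxHeartbeats 1000000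
set_option synthInstance.maxHeartbeats 100000

universe u

open CategoryTheory CategoryTheory.Limits MonoidalCategory CartesianMonoidalCategory MonObj AlgebraicGeometry Opposite
open Magnet

namespace Groth.Agent.MagnetDense

variable {k : Type u} [Field k] {M G X : Over (Spec (CommRingCat.of k))} [MonObj M] [GrpObj G]

/-- An invariant open subscheme inherits the action. -/
theorem exists_action_open (aX : AlgGrp.Action G X) (U : X.left.Opens)
    (hU : (snd G X).left ⁻¹ᵁ U ≤ aX.act.left ⁻¹ᵁ U) :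
    ∃ aU : AlgGrp.Action G (Over.mk (U.ι ≫ X.hom)),
      MonAct.IsEquivariant (MonAct.ofAction aU) (MonAct.ofAction aX) (Over.homMk U.ι rfl : Over.mk (U.ι ≫ X.hom) ⟶ X) := by
  let X' : Over (Spec (CommRingCat.of k)) := Over.mk (U.ι ≫ X.hom)
  let j : X' ⟶ X := Over.homMk U.ι rfl
  haveI : IsOpenImmersion j.left := inferInstanceAs (IsOpenImmersion U.ι)
  haveI : Mono j := Over.mono_of_mono_left j
  let m := (G ◁ j) ≫ aX.act
  have hr : Set.range m.left ⊆ Set.range j.left := by
    rintro _ ⟨z, rfl⟩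
    show m.left z ∈ Set.range U.ι
    rw [Scheme.Opens.range_ι]
    refine hU (x := (G ◁ j).left z) ?_
    show ((G ◁ j) ≫ snd G X).left z ∈ U
    rw [whiskerLeft_snd]
    exact ((snd G X').left z).2
  let l : G ⊗ X' ⟶ X' := Over.homMk (IsOpenImmersion.lift j.left m.left hr) (by
    rw [← Over.w j, IsOpenImmersion.lift_fac_assoc, Over.w])
  have hl : l ≫ j = (G ◁ j) ≫ aX.act := Over.OverMorphism.ext (IsOpenImmersion.lift_fac _ _ _)
  let a' : MonAct G X' := MonAct.mk' l (fun T x => by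
      rw [← cancel_mono j, Category.assoc, hl, lift_whiskerLeft_assoc]
      exact (MonAct.ofAction aX).lift_one_act _)
    (fun T g h x => by
      rw [← cancel_mono j, Category.assoc, hl, lift_whiskerLeft_assoc, Category.assoc, hl, lift_whiskerLeft_assoc,
        Category.assoc, hl, lift_whiskerLeft_assoc]
      exact (MonAct.ofAction aX).lift_mul_act g h _)
  exact ⟨a'.toAction, hl⟩

variable (i : G ⟶ M) [IsMonHom i] (o : 𝟙_ (Over (Spec (CommRingCat.of k))) ⟶ M)

/-- The value at the zero is fixed. -/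
theorem evalAt_zero_fixed (ho : ∀ (T : Over (Spec (CommRingCat.of k))) (m : T ⟶ M), m * (toUnit T ≫ o) = toUnit T ≫ o)
    (aX : AlgGrp.Action G X) {T : Over (Spec (CommRingCat.of k))}
    (φ : (MonAct.eqvHom ((MonAct.regular M).restrict i) (MonAct.ofAction aX)).obj (op T))
    (T' : Over (Spec (CommRingCat.of k))) (t : T' ⟶ T) (g : T' ⟶ G) :
    lift g (t ≫ lift (toUnit T ≫ o) (𝟙 T) ≫ φ.1) ≫ aX.act = t ≫ lift (toUnit T ≫ o) (𝟙 T) ≫ φ.1 := by
  have h := (MonAct.mem_eqvHom_iff φ.1).1 φ.2 T' g (toUnit T' ≫ o) t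
  rw [MonAct.lift_restrict_act, MonAct.lift_regular_act, ho] at h
  have e : t ≫ lift (toUnit T ≫ o) (𝟙 T) ≫ φ.1 = lift (toUnit T' ≫ o) t ≫ φ.1 := by
    rw [comp_lift_assoc, comp_toUnit_assoc, Category.comp_id]
  rw [e]
  exact h.symm

theorem exists_representable_covered [IsAffine M.left] [IsAffine G.left] [IsSchemeTheoreticallyDominant i.left]
    (hM : ZeroAbsorbs i o) (ho : ∀ (T : Over (Spec (CommRingCat.of k))) (m : T ⟶ M), m * (toUnit T ≫ o) = toUnit T ≫ o)
    (aX : AlgGrp.Action G X)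
    (hcov : ∀ (T : Over (Spec (CommRingCat.of k))) (x : (MonAct.fixedPsh (MonAct.ofAction aX)).obj (op T)),
      ⨆ (U : X.left.Opens) (_ : IsAffineOpen U ∧ (snd G X).left ⁻¹ᵁ U ≤ aX.act.left ⁻¹ᵁ U),
        x.1.left ⁻¹ᵁ U = ⊤) :
    ∃ Z : Over (Spec (CommRingCat.of k)),
      Nonempty ((MonAct.eqvHom ((MonAct.regular M).restrict i) (MonAct.ofAction aX)).RepresentableBy Z) := by
  classical
  let I := {U : X.left.Opens // IsAffineOpen U ∧ (snd G X).left ⁻¹ᵁ U ≤ aX.act.left ⁻¹ᵁ U}
  let XU : I → Over (Spec (CommRingCat.of k)) := fun U => Over.mk (U.1.ι ≫ X.hom)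
  let j : ∀ U, XU U ⟶ X := fun U => Over.homMk U.1.ι rfl
  haveI : ∀ U, IsOpenImmersion (j U).left := fun U => inferInstanceAs (IsOpenImmersion U.1.ι)
  haveI : ∀ U, IsAffine (XU U).left := fun U => U.2.1
  choose aU haU using fun U : I => exists_action_open aX U.1 U.2.2
  choose Z jZ e _ _ using fun U : I => exists_representable_affine i (aU U)
  let ρ := (MonAct.regular M).restrict i
  let post := fun U => MonAct.eqvHom.postcomp ρ (j U) (haU U)
  refine OverGlueRep.exists_representableBy _ (MagnetAttr.isSheaf_eqvHom _ ρ _) Z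
    (fun U => ((e U).toIso).hom ≫ post U) (fun U T a b h => ?_)
    (fun U T φ => (lift (toUnit T ≫ o) (𝟙 T) ≫ φ.1).left ⁻¹ᵁ U.1) (fun U T φ W g => ?_) (fun T φ p => ?_)
  · haveI : Mono (j U) := Over.mono_of_mono_left (j U)
    exact (e U).homEquiv.injective (Subtype.ext ((cancel_mono (j U)).1 (congrArg Subtype.val h)))
  · let φ' := (MonAct.eqvHom ρ (MonAct.ofAction aX)).map g.op φ
    have hev : lift (toUnit W ≫ o) (𝟙 W) ≫ φ'.1 = g ≫ lift (toUnit T ≫ o) (𝟙 T) ≫ φ.1 :=
      ConcreteCategory.congr_hom ((MonAct.eqvHom.evalAt ρ (MonAct.ofAction aX) o).naturality g.op) φ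
    have hpb := isPullback_eqvHom_open i o hM aX (aU U) (j U) (haU U)
    have hpT := (Types.isPullback_iff _ _ _ _).1 (hpb.map ((evaluation _ _).obj (op W)))
    constructor
    · intro hg
      let z : W ⟶ XU U := Over.homMk (IsOpenImmersion.lift (j U).left (g ≫ lift (toUnit T ≫ o) (𝟙 T) ≫ φ.1).left (by
        rintro _ ⟨w, rfl⟩
        show _ ∈ Set.range U.1.ι
        rw [Scheme.Opens.range_ι]
        exact hg ⟨w, rfl⟩)) (by rw [← Over.w (j U), IsOpenImmersion.lift_fac_assoc, Over.w])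
      have hz : z ≫ j U = g ≫ lift (toUnit T ≫ o) (𝟙 T) ≫ φ.1 := Over.OverMorphism.ext (IsOpenImmersion.lift_fac _ _ _)
      obtain ⟨ψ, hψ, -⟩ := hpT.2.2 φ' z (hev.trans hz.symm)
      refine ⟨(e U).homEquiv.symm ψ, ?_⟩
      show (post U).app (op W) ((e U).homEquiv ((e U).homEquiv.symm ψ)) = φ'
      rw [Equiv.apply_symm_apply]
      exact hψ
    · rintro ⟨z, hz⟩ _ ⟨w, rfl⟩
      show (g ≫ lift (toUnit T ≫ o) (𝟙 T) ≫ φ.1).left w ∈ U.1
      rw [← hev]
      have hz' : ((e U).homEquiv z).1 ≫ j U = φ'.1 := congrArg Subtype.val hz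
      rw [← hz', ← Category.assoc]
      exact ((lift (toUnit W ≫ o) (𝟙 W) ≫ ((e U).homEquiv z).1).left w).2
  · have h := hcov T ⟨lift (toUnit T ≫ o) (𝟙 T) ≫ φ.1, evalAt_zero_fixed i o ho aX φ⟩
    have hp : p ∈ (⊤ : T.left.Opens) := trivial
    rw [← h] at hp
    simp only [TopologicalSpace.Opens.mem_iSup] at hp
    obtain ⟨U, hU, hp⟩ := hp
    exact ⟨⟨U, hU⟩, hp⟩

end Groth.Agent.MagnetDense
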